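import Groth.Agent.H64.Pts.OpenSubIff
import Groth.Agent.H64.Pts.ChartTop
import Groth.Agent.H64.Stk.Glue
import Groth.Agent.H64.Stk.PostcompFF
import Groth.Agent.H50.QCKer2

set_option autoImplicit false
universe w u
open CategoryTheory CategoryTheory.Limits AlgebraicGeometry Opposite

/-! An algebraic stack covered by open substacks fibred in setoids is fibred in setoids. -/

namespace Groth.Agent.H64.OpenCov

open AlgSt Groth.Agent.H32 Groth.Agent.H64 Groth.Agent.H64.Recog Groth.Agent.H64.FpRep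
  Groth.Agent.H64.PTh Groth.Agent.H64.Pts

variable {S : Scheme.{u}} {𝒳 : AlgSt.Cat S}

/-- automorphisms over the identity are trivial when this holds on an open cover -/
theorem aut_eq_id_of_open_cover (h𝒳 : IsAlgStack Scheme.fppfPrecoverage 𝒳) {ι : Type w}
    (Q : ι → 𝒳.obj → Prop) (hQ : ∀ i, IsOpenSubstack 𝒳 (Q i) Scheme.fppfPrecoverage)
    (hcov : ⋃ i, Set.range (Points.map (AlgSt.subIncl 𝒳 (Q i))) = Set.univ)
    (hset : ∀ i, FibCat.IsFibSetoid (AlgSt.fullSub 𝒳 (Q i)).p)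
    {U : Over S} (X : 𝒳.obj) (hX : 𝒳.p.obj X = U) (α : X ⟶ X)
    (hα : 𝒳.p.IsHomLift (𝟙 U) α) : α = 𝟙 X := by
  have hfib : FibCat.IsFibGrpd 𝒳.p := h𝒳.isStack.1
  obtain ⟨ŷ, i₀, hi₀⟩ := exists_yoneda hfib X hX
  have hopen : ∀ i, IsOpen (Set.range (Points.map (AlgSt.subIncl 𝒳 (Q i)))) := fun i =>
    (isOpenSubstack_bijOn h𝒳).1.mapsTo (hQ i)
  let W : ι → U.left.Opens := fun i =>
    ⟨Points.ofChart ŷ ⁻¹' Set.range (Points.map (AlgSt.subIncl 𝒳 (Q i))),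
      (hopen i).preimage (continuous_ofChart h𝒳 ŷ)⟩
  have hW : ⨆ i, W i = ⊤ := by
    rw [eq_top_iff]
    intro u _
    have hu : Points.ofChart ŷ u ∈ ⋃ i, Set.range (Points.map (AlgSt.subIncl 𝒳 (Q i))) := by
      rw [hcov]; trivial
    obtain ⟨i, hi⟩ := Set.mem_iUnion.1 hu
    exact TopologicalSpace.Opens.mem_iSup.2 ⟨i, hi⟩
  have hR := Groth.Agent.H50.ofArrows_opens_mem_J (S := S) (T := U) W hW
  have hid : 𝒳.p.IsHomLift (𝟙 U) (𝟙 X) := by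
    subst hX; infer_instance
  refine hom_ext_of_restr_faithful hfib _ (h𝒳.isStack.2 _ hR).faithful hX hX α (𝟙 X) hα hid ?_
  intro V f hf s ψ hψ
  rw [Category.comp_id]
  obtain ⟨i, g, hfg⟩ := (Sieve.mem_ofArrows_iff _ _ _).1 hf
  have := (hQ i).1
  -- `s` lies in the `i`-th open substack
  have hs : Q i s := by
    rw [prop_iff_ofSet_range hfib (Q i) (hQ i) s]
    have hmap : 𝒳.p.IsHomLift f (ŷ.map (Over.homMk f (by simp) : Over.mk f ⟶ ovT U)) := by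
      apply (BasedFunctor.isHomLift_iff ŷ _ _).mpr
      apply IsHomLift.of_fac (Over.forget U) f _ rfl rfl
      change f = eqToHom rfl ≫ f ≫ eqToHom rfl
      simp
    have hψ' : 𝒳.p.IsHomLift f (ψ ≫ i₀.inv) :=
      lift_comp_id_right 𝒳.p hψ (lift_inv_of_iso 𝒳.p i₀ hi₀)
    obtain ⟨χ, -, -⟩ := cart_lift_id 𝒳.p (cart_of_fibGrpd 𝒳.p hfib hmap) (ψ ≫ i₀.inv) hψ'
    apply ofSet_of_hom _ χ
    rw [ofSet_obj_iff hfib _ ŷ (Over.mk f)]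
    intro t
    have h1 : (Over.mk f : Over U).hom.left t = (W i).ι (g.left t) := by
      have : (Over.mk f : Over U).hom = g ≫ Groth.Agent.H50.opensOvι U (W i) := hfg
      rw [this]
      rfl
    rw [h1]
    exact (g.left t).2
  -- the induced automorphism of `s`
  have hψα : 𝒳.p.IsHomLift f (ψ ≫ α) := lift_comp_id_right 𝒳.p hψ hα
  obtain ⟨χ, hχ, hχψ⟩ := cart_lift_id 𝒳.p (cart_of_fibGrpd 𝒳.p hfib hψ) (ψ ≫ α) hψα
  have hsV : 𝒳.p.obj s = V := lift_domain_eq 𝒳.p hψ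
  let s' : (AlgSt.fullSub 𝒳 (Q i)).p.Fiber V := ⟨⟨s, hs⟩, hsV⟩
  have hχ' : (AlgSt.fullSub 𝒳 (Q i)).p.IsHomLift (𝟙 V)
      (ObjectProperty.homMk χ : (⟨s, hs⟩ : (AlgSt.fullSub 𝒳 (Q i)).obj) ⟶ ⟨s, hs⟩) :=
    (sub_isHomLift_iff (Q := Q i) _ _).mpr hχ
  have h0 : 𝒳.p.IsHomLift (𝟙 V) (𝟙 s) := by
    subst hsV; infer_instance
  have hid' : (AlgSt.fullSub 𝒳 (Q i)).p.IsHomLift (𝟙 V)
      (𝟙 (⟨s, hs⟩ : (AlgSt.fullSub 𝒳 (Q i)).obj)) :=
    (sub_isHomLift_iff (Q := Q i) _ _).mpr h0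
  let m₁ : s' ⟶ s' := ⟨ObjectProperty.homMk χ, hχ'⟩
  let m₂ : s' ⟶ s' := ⟨𝟙 _, hid'⟩
  have hm : m₁ = m₂ := ((hset i).2 V s' s').elim m₁ m₂
  have hχ1 : χ = 𝟙 s := congrArg (fun m => m.1.hom) hm
  rw [← hχψ, hχ1, Category.id_comp]

/-- an algebraic stack covered by open substacks fibred in setoids is fibred in setoids -/
theorem isFibSetoid_of_open_cover (h𝒳 : IsAlgStack Scheme.fppfPrecoverage 𝒳) {ι : Type w}
    (Q : ι → 𝒳.obj → Prop) (hQ : ∀ i, IsOpenSubstack 𝒳 (Q i) Scheme.fppfPrecoverage)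
    (hcov : ⋃ i, Set.range (Points.map (AlgSt.subIncl 𝒳 (Q i))) = Set.univ)
    (hset : ∀ i, FibCat.IsFibSetoid (AlgSt.fullSub 𝒳 (Q i)).p) : FibCat.IsFibSetoid 𝒳.p := by
  have hfib : FibCat.IsFibGrpd 𝒳.p := h𝒳.isStack.1
  refine ⟨hfib, fun U X Y => ⟨fun φ ψ => ?_⟩⟩
  apply Functor.Fiber.hom_ext
  have hφ : 𝒳.p.IsHomLift (𝟙 U) φ.1 := φ.2
  have hψ : 𝒳.p.IsHomLift (𝟙 U) ψ.1 := ψ.2
  have iψ : IsIso ψ.1 := isIso_of_lift_id 𝒳.p hfib hψ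
  have hinv : 𝒳.p.IsHomLift (𝟙 U) (inv ψ.1) := lift_inv_of_isIso 𝒳.p _ hψ
  have h := aut_eq_id_of_open_cover h𝒳 Q hQ hcov hset X.1 X.2 (φ.1 ≫ inv ψ.1)
    (lift_id_comp_id 𝒳.p hφ hinv)
  rw [IsIso.comp_inv_eq, Category.id_comp] at h
  exact h

/-- a category over `(Sch/S)` representable by an algebraic space is fibred in setoids -/
theorem isFibSetoid_of_repByAlgSp {𝒲 : AlgSt.Cat S} (h : RepByAlgSp 𝒲) :
    FibCat.IsFibSetoid 𝒲.p := by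
  obtain ⟨F, e, he⟩ := h
  exact (isFibSetoid_iff_of_isEquivOver he).mp (isFibSetoid_ofPsh F.obj.obj)

end Groth.Agent.H64.OpenCov
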