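import Groth.Agent.H64.Aff.Main
import Groth.Agent.H64.Aff.QuotDiag
import Groth.Agent.H64.Psh.PKeyS
import Groth.Agent.H64.Psh.PDescent2
import Groth.Agent.H64.Psh.PCompInst
import Groth.Agent.H64.Gerb.LocSurj
import Groth.Agent.H64.Stk.Glue
import Groth.Agent.H64.FpSetoid
import Groth.Agent.H64.UnramQF
import Groth.Agent.H50.AffineMor
import Groth.Agent.S10534

set_option autoImplicit false
universe u
open CategoryTheory CategoryTheory.Limits AlgebraicGeometry Opposite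

/-! Closed immersions of algebraic stacks are detected on an fppf presentation of the target. -/

namespace Groth.Agent.H64.OpenCov

open AlgSt Groth.Agent.H32 Groth.Agent.H64 Groth.Agent.H64.Recog Groth.Agent.H64.FpRep
  Groth.Agent.H64.PTh Groth.Agent.H64.Aff

variable {S : Scheme.{u}} {𝒳 𝒴 : AlgSt.Cat S}

/-- a morphism of stacks whose base change to an fppf covering by an algebraic space is (the
category of) an algebraic space is faithful -/
theorem faithful_of_presentation (h𝒳 : Stk.IsStack (AlgSp.J S) 𝒳) (h𝒴 : FibCat.IsFibGrpd 𝒴.p)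
    (f : 𝒳 ⥤ᵇ 𝒴) (W : AlgSp.Space S) (w : ofSp W.obj ⥤ᵇ 𝒴)
    (hw₁ : RepByAlgSpWith (AlgSp.LocP @Flat) w)
    (hw₂ : RepByAlgSpWith (AlgSp.LocP @LocallyOfFinitePresentation) w)
    (hw₃ : RepByAlgSpWith AlgSp.IsSurjectiveMor w)
    (V : AlgSp.Sp S) (e : ofSp V ⥤ᵇ FibCat.fp w f) (he : FibCat.IsEquivOver e) :
    f.toFunctor.Faithful := by
  have hset : FibCat.IsFibSetoid (FibCat.fp w f).p :=
    (isFibSetoid_iff_of_isEquivOver he).mp (isFibSetoid_ofPsh V.obj)
  have hG' : (FibCat.fpFst w f).toFunctor.Faithful :=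
    faithful_of_isFibSetoid (FibCat.fpFst w f) hset (isFibSetoid_ofPsh W.obj.obj).1
  exact faithful_of_faithful_fpFst w f (AlgSp.J S) h𝒴 h𝒳.1
    (fun U R hR => (h𝒳.2 R hR).faithful)
    (Groth.Agent.H64.GerbL.locSurjObj_of_fppf h𝒴 w hw₁ hw₂ hw₃) hG'

theorem isClosedImm_iff_presentation
    (h𝒳 : IsAlgStack Scheme.fppfPrecoverage 𝒳) (h𝒴 : IsAlgStack Scheme.fppfPrecoverage 𝒴)
    (f : 𝒳 ⥤ᵇ 𝒴) (W : AlgSp.Space S) (w : ofSp W.obj ⥤ᵇ 𝒴)
    (hw₁ : RepByAlgSpWith (AlgSp.LocP @Flat) w)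
    (hw₂ : RepByAlgSpWith (AlgSp.LocP @LocallyOfFinitePresentation) w)
    (hw₃ : RepByAlgSpWith AlgSp.IsSurjectiveMor w) :
    IsClosedImm f ↔
      ∃ (V : AlgSp.Space S) (a : V ⟶ W) (e : ofSp V.obj ⥤ᵇ FibCat.fp w f),
        FibCat.IsEquivOver e ∧
          Nonempty (BasedFunctor.comp e (FibCat.fpFst w f) ≅ ofSpMap a.hom) ∧
            AlgSp.RepWith @IsClosedImmersion a.hom := by
  have hinst := AlgSp.repWith_isStableUnderBaseChange (S := S) @IsClosedImmersion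
  have hPb : StableBC (AlgSp.RepWith (S := S) @IsClosedImmersion) := stableBC_of_inst _
  constructor
  · intro hf
    exact hasP_of_repByAlgSpWith_sch h𝒳.isStack.1 h𝒴.isStack.1 hPb
      (schLocal_repWith @IsClosedImmersion) f hf W w
  · rintro ⟨V, a, e, he, ⟨α⟩, hcl⟩
    have h1 : RepByAlgSpWith (AlgSp.RepWith @IsClosedImmersion) (ofSpMap a.hom) :=
      repByAlgSpWith_ofSpMap hPb a hcl
    have h2 : RepByAlgSpWith (AlgSp.RepWith @IsClosedImmersion) (FibCat.fpFst w f) :=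
      repByAlgSpWith_of_square' _ (FibCat.fpFst w f) (ofSpMap a.hom) e (BasedFunctor.id _) he
        (isEquivOver_id _) α.symm h1
    have h3 : RepByAlgSpWith AlgSp.IsAffineMor (FibCat.fpFst w f) :=
      repByAlgSpWith_mono
        (fun _ _ _ hd => Groth.Agent.H50.isAffineMor_of_repWith_isClosedImmersion hd) h2
    have := faithful_of_presentation h𝒳.isStack h𝒴.isStack.1 f W w hw₁ hw₂ hw₃ V.obj e he
    have h4 : RepByAlgSpWith AlgSp.IsAffineMor f :=
      repByAlgSpWith_isAffineMor_of_fppf_cover h𝒳.isStack (isPrestack_of_isStack h𝒴.isStack)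
        (isFibSetoid_ofPsh W.obj.obj).1 f w hw₁ hw₂ hw₃ h3
    exact repByAlgSpWith_of_fpFst_fppf h𝒳.isStack.1 h𝒴.isStack.1 (isFibSetoid_ofPsh W.obj.obj).1
      hPb (isLocalOnBase_fppf_of_fpqc (Groth.Agent.S10534.result S)) f
      (RepByAlgSpWith.repByAlgSp1 h4) w hw₁ hw₂ hw₃ h2

end Groth.Agent.H64.OpenCov
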