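import Groth.Agent.H64.OpenCov.ClosedImmPres
import Groth.Agent.S12842
import Groth.Agent.S10531
import Groth.Agent.S10547

set_option autoImplicit false
universe u
open CategoryTheory CategoryTheory.Limits AlgebraicGeometry Opposite

/-! (Open) immersions of algebraic stacks are detected on an fppf presentation of the target. -/

namespace Groth.Agent.H64.OpenCov

open AlgSt Groth.Agent.H32 Groth.Agent.H64 Groth.Agent.H64.Recog Groth.Agent.H64.FpRep
  Groth.Agent.H64.PTh Groth.Agent.H64.Aff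

variable {S : Scheme.{u}} {𝒳 𝒴 : AlgSt.Cat S}

theorem repWith_iff_presentation (P : MorphismProperty Scheme.{u}) [P.IsStableUnderBaseChange]
    [P.RespectsIso]
    (hloc : AlgSp.IsLocalOnBase (AlgSp.IsFppfCover (S := S)) (AlgSp.RepWith P))
    (h𝒳 : IsAlgStack Scheme.fppfPrecoverage 𝒳) (h𝒴 : IsAlgStack Scheme.fppfPrecoverage 𝒴)
    (f : 𝒳 ⥤ᵇ 𝒴) (W : AlgSp.Space S) (w : ofSp W.obj ⥤ᵇ 𝒴)
    (hw₁ : RepByAlgSpWith (AlgSp.LocP @Flat) w)
    (hw₂ : RepByAlgSpWith (AlgSp.LocP @LocallyOfFinitePresentation) w)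
    (hw₃ : RepByAlgSpWith AlgSp.IsSurjectiveMor w) :
    RepByAlgSpWith (AlgSp.RepWith P) f ↔
      ∃ (V : AlgSp.Space S) (a : V ⟶ W) (e : ofSp V.obj ⥤ᵇ FibCat.fp w f),
        FibCat.IsEquivOver e ∧
          Nonempty (BasedFunctor.comp e (FibCat.fpFst w f) ≅ ofSpMap a.hom) ∧
            AlgSp.RepWith P a.hom := by
  have hinst := AlgSp.repWith_isStableUnderBaseChange (S := S) P
  have hPb : StableBC (AlgSp.RepWith (S := S) P) := stableBC_of_inst _
  constructor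
  · intro hf
    exact hasP_of_repByAlgSpWith_sch h𝒳.isStack.1 h𝒴.isStack.1 hPb
      (schLocal_repWith P) f hf W w
  · rintro ⟨V, a, e, he, ⟨α⟩, hcl⟩
    have h1 : RepByAlgSpWith (AlgSp.RepWith P) (ofSpMap a.hom) :=
      repByAlgSpWith_ofSpMap hPb a hcl
    have h2 : RepByAlgSpWith (AlgSp.RepWith P) (FibCat.fpFst w f) :=
      repByAlgSpWith_of_square' _ (FibCat.fpFst w f) (ofSpMap a.hom) e (BasedFunctor.id _) he
        (isEquivOver_id _) α.symm h1
    have h4 : RepByAlgSp1 f :=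
      Groth.Agent.S12842.result h𝒳 h𝒴 f W w hw₁ hw₂ hw₃ ⟨V, e, he⟩
    exact repByAlgSpWith_of_fpFst_fppf h𝒳.isStack.1 h𝒴.isStack.1 (isFibSetoid_ofPsh W.obj.obj).1
      hPb hloc f h4 w hw₁ hw₂ hw₃ h2

end Groth.Agent.H64.OpenCov
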