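import Groth.Agent.H64.Psh.RepDict
import Groth.Agent.H64.Psh.RepDictWith
import Groth.Prelude.Def_AlgSt3

set_option autoImplicit false
universe u
open CategoryTheory CategoryTheory.Limits AlgebraicGeometry Opposite

/-! From representability (with a scheme property) of the functor of a map of sheaves to
representability of the map. -/

namespace Groth.Agent.H64.OpenCov

open AlgSt Groth.Agent.H32 Groth.Agent.H64 Groth.Agent.H64.Recog

variable {S : Scheme.{u}}

theorem repWith_of_repByAlgSpWith_ofSpMap (Q : MorphismProperty Scheme.{u})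
    [Q.IsStableUnderBaseChange] {G F : AlgSp.Sp S} (a : G ⟶ F)
    (h : RepByAlgSpWith (AlgSp.RepWith Q) (ofSpMap a)) : AlgSp.RepWith Q a := by
  have h2 : AlgSp.RepBySp a.hom := repBySp_of_repByAlgSp1 a.hom
    (fun U y => by obtain ⟨F, e, he, -⟩ := h U y; exact ⟨F, e, he⟩)
  have h3 : AlgSp.RepBySpWith (AlgSp.RepWith Q) a.hom :=
    repBySpWith_of_repByAlgSpWith a.hom (AlgSp.RepWith Q) h2 h
  apply MorphismProperty.relative.of_exists
  intro U g
  have sq := IsPullback.of_hasPullback a g
  have sq' : IsPullback (pullback.fst a g).hom (pullback.snd a g).hom a.hom g.hom :=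
    sq.map (sheafToPresheaf _ _)
  obtain ⟨hsh, -, hQ⟩ := h3 g.hom (pullback.fst a g).hom (pullback.snd a g).hom sq'
  have hQ' : AlgSp.RepWith Q (pullback.snd a g) := hQ
  obtain ⟨b, snd', fst', sqb⟩ := hQ'.rep (𝟙 _)
  have hb := hQ'.property (𝟙 _) fst' snd' sqb
  refine ⟨b, fst' ≫ pullback.fst a g, snd', ?_, hb⟩
  have := sqb.paste_horiz sq
  rwa [Category.id_comp] at this

end Groth.Agent.H64.OpenCov
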