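import Groth.Agent.H64.OpenCov.Setoid
import Groth.Agent.H64.OpenCov.RepWithOfSp
import Groth.Agent.H64.Aff.SheafPres
import Groth.Agent.H64.SpMap
import Groth.Agent.H64.Pts.Atlas
import Groth.Agent.H64.Pts.Compare
import Groth.Agent.H65.AlgSpOpenCover2

set_option autoImplicit false
universe w u
open CategoryTheory CategoryTheory.Limits AlgebraicGeometry Opposite

/-! An algebraic stack covered by open substacks which are algebraic spaces is an algebraic space. -/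

namespace Groth.Agent.H64.OpenCov

open AlgSt Groth.Agent.H32 Groth.Agent.H64 Groth.Agent.H64.Recog Groth.Agent.H64.FpRep
  Groth.Agent.H64.PTh Groth.Agent.H64.Pts

variable {S : Scheme.{u}} {𝒳 : AlgSt.Cat S}

theorem exists_space_of_open_cover (h𝒳 : IsAlgStack Scheme.fppfPrecoverage 𝒳) {ι : Type w}
    (Q : ι → 𝒳.obj → Prop) (hQ : ∀ i, IsOpenSubstack 𝒳 (Q i) Scheme.fppfPrecoverage)
    (hcov : ⋃ i, Set.range (Points.map (AlgSt.subIncl 𝒳 (Q i))) = Set.univ)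
    (G : ι → AlgSp.Space S) (eG : ∀ i, ofSp (G i).obj ⥤ᵇ AlgSt.fullSub 𝒳 (Q i))
    (heG : ∀ i, FibCat.IsEquivOver (eG i)) :
    ∃ (F : AlgSp.Space S) (e₀ : ofSp F.obj ⥤ᵇ 𝒳), FibCat.IsEquivOver e₀ ∧
      ∀ x : AlgSp.Points F.obj, ∃ (i : ι) (f : (G i).obj ⟶ F.obj),
        AlgSp.RepWith @IsOpenImmersion f ∧ x ∈ Set.range (AlgSp.Points.map f) := by
  have hfib : FibCat.IsFibGrpd 𝒳.p := h𝒳.isStack.1
  have hset : ∀ i, FibCat.IsFibSetoid (AlgSt.fullSub 𝒳 (Q i)).p := fun i =>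
    isFibSetoid_of_repByAlgSp ⟨G i, eG i, heG i⟩
  have hs := isFibSetoid_of_open_cover h𝒳 Q hQ hcov hset
  obtain ⟨F, e₀, he₀⟩ := Groth.Agent.H64.Aff.exists_sheaf_of_stack_setoid hs h𝒳.isStack
  obtain ⟨d₀⟩ := IsEquivOver.nonempty_data he₀
  -- the maps of sheaves
  let Φ : ∀ i, ofSp (G i).obj ⥤ᵇ ofSp F := fun i =>
    BasedFunctor.comp (BasedFunctor.comp (eG i) (AlgSt.subIncl 𝒳 (Q i))) d₀.inv
  let f : ∀ i, (G i).obj ⟶ F := fun i => ObjectProperty.homMk (pshMapOf (Φ i))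
  have β : ∀ i, Nonempty (ofSpMap (f i) ≅ Φ i) := fun i => nonempty_iso_ofPshMap (Φ i)
  have sqiso : ∀ i, Nonempty (BasedFunctor.comp (ofSpMap (f i)) e₀ ≅
      BasedFunctor.comp (eG i) (AlgSt.subIncl 𝒳 (Q i))) := fun i => by
    obtain ⟨βi⟩ := β i
    have e1 : BasedFunctor.comp (ofSpMap (f i)) e₀ ≅ BasedFunctor.comp (Φ i) e₀ := bwrIso βi e₀
    have e2 : BasedFunctor.comp (BasedFunctor.comp (eG i) (AlgSt.subIncl 𝒳 (Q i)))
        (BasedFunctor.comp d₀.inv e₀) ≅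
        BasedFunctor.comp (BasedFunctor.comp (eG i) (AlgSt.subIncl 𝒳 (Q i)))
          (BasedFunctor.id _) :=
      bwlIso (BasedFunctor.comp (eG i) (AlgSt.subIncl 𝒳 (Q i))) d₀.counit
    exact ⟨e1 ≪≫ e2⟩
  have hopen : ∀ i, AlgSp.RepWith @IsOpenImmersion (f i) := fun i => by
    obtain ⟨e⟩ := sqiso i
    apply repWith_of_repByAlgSpWith_ofSpMap
    exact repByAlgSpWith_of_square _ (AlgSt.subIncl 𝒳 (Q i)) (ofSpMap (f i)) (eG i) e₀ (heG i) he₀ e
      (hQ i).2.2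
  -- reduction of the index set to the points of an atlas
  obtain ⟨W, w, -, hw2⟩ := h𝒳.atlas
  have hwsurj := surjective_ofChart hfib w hw2
  have hidx : ∀ k : ↥W.left, ∃ i, Points.ofChart w k ∈
      Set.range (Points.map (AlgSt.subIncl 𝒳 (Q i))) := fun k => by
    have hu : Points.ofChart w k ∈ ⋃ i, Set.range (Points.map (AlgSt.subIncl 𝒳 (Q i))) := by
      rw [hcov]; trivial
    exact Set.mem_iUnion.1 hu
  choose idx hidx using hidx
  have hcovF : ∀ x : AlgSp.Points F, ∃ k : ↥W.left,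
      x ∈ Set.range (AlgSp.Points.map (f (idx k))) := fun x => by
    obtain ⟨k, hk⟩ := hwsurj (Points.map e₀ (σ F x))
    refine ⟨k, ?_⟩
    obtain ⟨η, hη⟩ := hidx k
    obtain ⟨η', rfl⟩ := (map_bijective_of_isEquivOver (heG (idx k))).2 η
    obtain ⟨r, rfl⟩ := σ_surjective η'
    refine ⟨r, ?_⟩
    apply σ_injective
    apply (map_bijective_of_isEquivOver he₀).1
    obtain ⟨e⟩ := sqiso (idx k)
    rw [← σ_map, ← map_comp, map_eq_of_hom e.hom, map_comp, hη, hk]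
  have hF : AlgSp.IsAlgSpace F :=
    Groth.Agent.H65.AlgSpBoot.isAlgSpace_of_open_cover_points (fun k : ↥W.left => (G (idx k)).obj)
      (fun k => f (idx k)) (fun k => (G (idx k)).property) (fun k => hopen (idx k)) hcovF
  refine ⟨⟨F, hF⟩, e₀, he₀, fun x => ?_⟩
  obtain ⟨k, hk⟩ := hcovF x
  exact ⟨idx k, f (idx k), hopen _, hk⟩

end Groth.Agent.H64.OpenCov
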